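import Groth.Prelude.Def_W4c5normfunctorschNorm
import Mathlib

/-!
# Base change of universal normic pairs
-/

set_option autoImplicit false
set_option linter.style.haveILetI false

universe u

open scoped TensorProduct
open PolLaw

namespace Groth.Agent.H27Normic

section BC

variable {R : Type u} [CommRing R] {Q : Type u} [CommRing Q] [Algebra R Q]
  {X : Type u} [AddCommGroup X] [Module R X]
  {Y : Type u} [AddCommGroup Y] [Module R Y] [Module Q Y] [IsScalarTower R Q Y]

/-- `s ⊗ x ↦ s ⊗ g x`. -/
noncomputable def bcS (Q : Type u) [CommRing Q] [Algebra R Q] [Module Q Y] [IsScalarTower R Q Y]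
    (g : X →ₗ[R] Y) (S : Type u) [CommSemiring S] [Algebra R S] [Algebra Q S]
    [IsScalarTower R Q S] : S ⊗[R] X →ₗ[S] S ⊗[Q] Y :=
  (g.liftBaseChange Q).baseChange S ∘ₗ
    (TensorProduct.AlgebraTensorModule.cancelBaseChange R Q S S X).symm.toLinearMap

variable (g : X →ₗ[R] Y) (S : Type u) [CommSemiring S] [Algebra R S] [Algebra Q S]
  [IsScalarTower R Q S]

@[simp]
theorem bcS_tmul (s : S) (x : X) : bcS Q g S (s ⊗ₜ x) = s ⊗ₜ g x := by
  simp [bcS]

theorem bcS_bijective (hg : IsBaseChange Q g) : Function.Bijective (bcS Q g S) :=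
  ((LinearEquiv.baseChange Q S _ _ (LinearEquiv.ofBijective (g.liftBaseChange Q)
    (by
      have h := hg.equiv.bijective
      convert h using 1
      ext z
      induction z using TensorProduct.induction_on with
      | zero => simp
      | tmul q x => simp [IsBaseChange.equiv_tmul]
      | add a b ha hb => simp [ha, hb]))).bijective).comp
    (TensorProduct.AlgebraTensorModule.cancelBaseChange R Q S S X).symm.bijective

variable {S} in
theorem bcS_natural {S' : Type u} [CommSemiring S'] [Algebra R S'] [Algebra Q S']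
    [IsScalarTower R Q S'] (φ : S →ₐ[Q] S') (z : S ⊗[R] X) :
    φ.toLinearMap.rTensor Y (bcS Q g S z) =
      bcS Q g S' ((φ.restrictScalars R).toLinearMap.rTensor X z) := by
  induction z using TensorProduct.induction_on with
  | zero => simp
  | tmul s x => simp
  | add a b ha hb => simp only [map_add, ha, hb]

theorem bcAlong_eq (P : Type u) [CommRing P] [Algebra R P] [Algebra Q P] [IsScalarTower R Q P]
    (z : P ⊗[R] X) : bcAlong g P z = bcS Q g P z := by
  induction z using TensorProduct.induction_on with
  | zero => simp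
  | tmul s x => simp [bcAlong]
  | add a b ha hb => simp only [map_add, ha, hb]

end BC

section Norm

variable {R R' : Type u} [CommRing R] [CommRing R'] [Algebra R R'] [Module.Free R R']
  [Module.Finite R R']

theorem norm_map {S T : Type u} [CommRing S] [Algebra R S] [CommRing T] [Algebra R T]
    (ι : S →ₐ[R] T) (x : S ⊗[R] R') :
    Algebra.norm T (Algebra.TensorProduct.map ι (AlgHom.id R R') x) = ι (Algebra.norm S x) := by
  rw [← detAct_self, ← detAct_self, detAct_map]

variable {M' : Type u} [AddCommGroup M'] [Module R M'] [Module R' M'] [IsScalarTower R R' M']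
  {Q Q' : Type u} [CommRing Q] [Algebra R Q] [CommRing Q'] [Algebra R Q'] [Algebra Q Q']
  [Algebra R' Q'] [IsScalarTower R Q Q'] [IsScalarTower R R' Q'] [Algebra.IsPushout R R' Q Q']
  {M'' : Type u} [AddCommGroup M''] [Module R M''] [Module R' M''] [Module Q M''] [Module Q' M'']
  [IsScalarTower R R' M''] [IsScalarTower R Q M''] [IsScalarTower R' Q' M''] [IsScalarTower Q Q' M'']

omit [Module.Free R R'] [Module.Finite R R'] in
theorem isBaseChange_restrict {f : M' →ₗ[R'] M''} (hf : IsBaseChange Q' f) :
    IsBaseChange Q (f.restrictScalars R) := by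
  haveI : Algebra.IsPushout R Q R' Q' := Algebra.IsPushout.symm inferInstance
  let e : Q ⊗[R] M' ≃ₗ[Q] M'' :=
    (Algebra.IsPushout.cancelBaseChange R Q R' Q' M').symm ≪≫ₗ hf.equiv.restrictScalars Q
  refine IsBaseChange.of_equiv e fun x => ?_
  simp [e, IsBaseChange.equiv_tmul]

/-- `p ⊗ b ↦ p ⊗ b`. -/
noncomputable def ringBC (P : Type u) [CommRing P] [Algebra R P] [Algebra Q P]
    [IsScalarTower R Q P] : P ⊗[R] R' →ₐ[P] P ⊗[Q] Q' :=
  Algebra.TensorProduct.lift (Algebra.TensorProduct.includeLeft)
    (((Algebra.TensorProduct.includeRight : Q' →ₐ[Q] P ⊗[Q] Q').restrictScalars R).comp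
      (IsScalarTower.toAlgHom R R' Q')) fun _ _ => Commute.all _ _

omit [Module.Free R R'] [Module.Finite R R'] in
theorem ringBC_bijective (P : Type u) [CommRing P] [Algebra R P] [Algebra Q P]
    [IsScalarTower R Q P] : Function.Bijective (ringBC (R := R) (R' := R') (Q := Q) (Q' := Q') P) := by
  haveI : Algebra.IsPushout R Q R' Q' := Algebra.IsPushout.symm inferInstance
  have h := bcS_bijective (IsScalarTower.toAlgHom R R' Q').toLinearMap P
    (Algebra.IsPushout.out (R := R) (S := Q) (R' := R') (S' := Q'))
  have he : ⇑(ringBC (R := R) (R' := R') (Q := Q) (Q' := Q') P) =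
      ⇑(bcS (Q := Q) (IsScalarTower.toAlgHom R R' Q').toLinearMap P) := by
    funext z
    induction z using TensorProduct.induction_on with
    | zero => simp
    | tmul s x => simp [ringBC]
    | add a b ha hb => simp only [map_add, ha, hb]
  rw [he]; exact h

omit [Module.Free R R'] [Module.Finite R R'] in
theorem norm_ringBC (P : Type u) [CommRing P] [Algebra R P] [Algebra Q P] [IsScalarTower R Q P]
    (x : P ⊗[R] R') : Algebra.norm P (ringBC (R := R) (R' := R') (Q := Q) (Q' := Q') P x) = Algebra.norm P x :=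
  Algebra.norm_eq_of_algEquiv
    (AlgEquiv.ofBijective _ (ringBC_bijective (R := R) (R' := R') (Q := Q) (Q' := Q') P)) x

omit [Module.Free R R'] [Module.Finite R R'] in
theorem bcS_actEnd (f : M' →ₗ[R'] M'') (P : Type u) [CommRing P] [Algebra R P] [Algebra Q P]
    [IsScalarTower R Q P] (x : P ⊗[R] R') (m : P ⊗[R] M') :
    bcS (Q := Q) (f.restrictScalars R) P (actEnd M' P x m) =
      actEnd M'' P (ringBC (R := R) (R' := R') (Q := Q) (Q' := Q') P x) (bcS (Q := Q) (f.restrictScalars R) P m) := by
  induction x using TensorProduct.induction_on with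
  | zero => simp
  | tmul s b =>
    induction m using TensorProduct.induction_on with
    | zero => simp
    | tmul t y => simp [ringBC, IsScalarTower.algebraMap_smul]
    | add a c ha hc => simp only [map_add, ha, hc]
  | add a c ha hc => simp only [map_add, LinearMap.add_apply, ha, hc]

variable {N : Type u} [AddCommGroup N] [Module R N]
  {N'' : Type u} [AddCommGroup N''] [Module R N''] [Module Q N''] [IsScalarTower R Q N'']

theorem exists_baseChange_law (ν : M' →ₚₗ[R] N) (hν : IsNormic R' ν) {f : M' →ₗ[R'] M''}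
    (hf : IsBaseChange Q' f) :
    ∃ μ : M'' →ₚₗ[Q] (Q ⊗[R] N), IsNormic Q' μ ∧
      ∀ (P : Type u) [CommRing P] [Algebra R P] [Algebra Q P] [IsScalarTower R Q P] (m : P ⊗[R] M'),
        μ.toFun' P (bcS (Q := Q) (f.restrictScalars R) P m) =
          bcS (Q := Q) (TensorProduct.mk R Q N 1) P (ν.toFun' P m) := by
  have hf₀ := isBaseChange_restrict (R := R) (Q := Q) hf
  have ha : ∀ (S : Type u) [CommSemiring S] [Algebra R S] [Algebra Q S] [IsScalarTower R Q S],
      Function.Bijective (bcS (Q := Q) (f.restrictScalars R) S) := fun S _ _ _ _ => bcS_bijective _ S hf₀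
  let μ : M'' →ₚₗ[Q] (Q ⊗[R] N) :=
    { toFun' := fun S _ _ z =>
        letI : Algebra R S := Algebra.compHom S (algebraMap R Q)
        haveI : IsScalarTower R Q S := IsScalarTower.of_algebraMap_eq fun _ => rfl
        bcS (Q := Q) (TensorProduct.mk R Q N 1) S
          (ν.toFun' S ((LinearEquiv.ofBijective (bcS (Q := Q) (f.restrictScalars R) S) (ha S)).symm z))
      isCompat' := fun {S} _ _ {S'} _ _ φ => by
        letI : Algebra R S := Algebra.compHom S (algebraMap R Q)
        haveI : IsScalarTower R Q S := IsScalarTower.of_algebraMap_eq fun _ => rfl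
        letI : Algebra R S' := Algebra.compHom S' (algebraMap R Q)
        haveI : IsScalarTower R Q S' := IsScalarTower.of_algebraMap_eq fun _ => rfl
        funext z
        obtain ⟨m, rfl⟩ := (ha S).2 z
        simp only [Function.comp_apply]
        rw [bcS_natural, bcS_natural, PolynomialLaw.isCompat_apply']
        congr 1
        congr 1
        exact (congrArg _
          ((LinearEquiv.ofBijective (bcS (Q := Q) (f.restrictScalars R) S) (ha S)).symm_apply_apply m)).trans
          ((LinearEquiv.ofBijective (bcS (Q := Q) (f.restrictScalars R) S') (ha S')).symm_apply_apply _).symm }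
  have hμ : ∀ (P : Type u) [CommRing P] [Algebra R P] [Algebra Q P] [IsScalarTower R Q P]
      (m : P ⊗[R] M'), μ.toFun' P (bcS (Q := Q) (f.restrictScalars R) P m) =
        bcS (Q := Q) (TensorProduct.mk R Q N 1) P (ν.toFun' P m) := by
    intro P _ iR _ iT m
    obtain rfl : iR = Algebra.compHom P (algebraMap R Q) :=
      Algebra.algebra_ext _ _ fun r => IsScalarTower.algebraMap_apply R Q P r
    letI : Algebra R P := Algebra.compHom P (algebraMap R Q)
    change bcS Q _ P (ν.toFun' P _) = _
    exact congrArg (fun t => bcS (Q := Q) (TensorProduct.mk R Q N 1) P (ν.toFun' P t))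
      ((LinearEquiv.ofBijective (bcS (Q := Q) (f.restrictScalars R) P) (ha P)).symm_apply_apply m)
  refine ⟨μ, fun P _ _ x z => ?_, hμ⟩
  letI : Algebra R P := Algebra.compHom P (algebraMap R Q)
  haveI : IsScalarTower R Q P := IsScalarTower.of_algebraMap_eq fun _ => rfl
  obtain ⟨m, rfl⟩ := (ha P).2 z
  obtain ⟨y, rfl⟩ := (ringBC_bijective (R := R) (R' := R') (Q := Q) (Q' := Q') P).2 x
  rw [← bcS_actEnd, hμ, hμ, hν P, map_smul, norm_ringBC]

/-- `(Q ⊗ S) ⊗_Q Y → S ⊗ Y`, `(q ⊗ s) ⊗ y ↦ s ⊗ q y`. -/
noncomputable def contr (S : Type u) [CommSemiring S] [Algebra R S] (Y : Type u) [AddCommGroup Y]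
    [Module R Y] [Module Q Y] [IsScalarTower R Q Y] : (Q ⊗[R] S) ⊗[Q] Y →ₗ[R] S ⊗[R] Y :=
  ((TensorProduct.AlgebraTensorModule.cancelBaseChange R Q Q Y S).toLinearMap.restrictScalars R
    ∘ₗ (TensorProduct.comm Q (Q ⊗[R] S) Y).toLinearMap.restrictScalars R) |>
      fun g => (TensorProduct.comm R Y S).toLinearMap ∘ₗ g

omit [Module.Free R R'] [Module.Finite R R'] in
@[simp]
theorem contr_tmul (S : Type u) [CommSemiring S] [Algebra R S] (Y : Type u) [AddCommGroup Y]
    [Module R Y] [Module Q Y] [IsScalarTower R Q Y] (q : Q) (s : S) (y : Y) :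
    contr S Y ((q ⊗ₜ s) ⊗ₜ y) = s ⊗ₜ[R] (q • y) := by
  simp [contr]

omit [Module.Free R R'] [Module.Finite R R'] in
theorem contr_smul (S : Type u) [CommRing S] [Algebra R S] (Y : Type u) [AddCommGroup Y]
    [Module R Y] [Module Q Y] [IsScalarTower R Q Y] (s : S) (z : (Q ⊗[R] S) ⊗[Q] Y) :
    contr S Y ((Algebra.TensorProduct.includeRight (R := R) (A := Q) s) • z) = s • contr S Y z := by
  induction z using TensorProduct.induction_on with
  | zero => simp
  | tmul t y =>
    induction t using TensorProduct.induction_on with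
    | zero => simp
    | tmul q s' => simp [TensorProduct.smul_tmul', Algebra.TensorProduct.tmul_mul_tmul]
    | add a b ha hb => simp only [smul_add, TensorProduct.add_tmul, map_add, ha, hb]
  | add a b ha hb => simp only [smul_add, map_add, ha, hb]

theorem exists_pushed_law {f : M' →ₗ[R'] M''} (ν'' : M'' →ₚₗ[Q] N'') (hν : IsNormic Q' ν'') :
    ∃ ρ : M' →ₚₗ[R] N'', IsNormic R' ρ ∧
      ∀ (S : Type u) [CommRing S] [Algebra R S] (m : S ⊗[R] M'),
        ρ.toFun' S m = contr S N'' (ν''.toFun' (Q ⊗[R] S) (bcS (Q := Q) (f.restrictScalars R) (Q ⊗[R] S)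
          ((Algebra.TensorProduct.includeRight : S →ₐ[R] Q ⊗[R] S).toLinearMap.rTensor M' m))) := by
  let ρ : M' →ₚₗ[R] N'' :=
    { toFun' := fun S _ _ m => contr S N'' (ν''.toFun' (Q ⊗[R] S)
        (bcS (Q := Q) (f.restrictScalars R) (Q ⊗[R] S)
          ((Algebra.TensorProduct.includeRight : S →ₐ[R] Q ⊗[R] S).toLinearMap.rTensor M' m)))
      isCompat' := fun {S} _ _ {S'} _ _ φ => by
        funext m
        simp only [Function.comp_apply]
        let Φ : Q ⊗[R] S →ₐ[Q] Q ⊗[R] S' := Algebra.TensorProduct.map (AlgHom.id Q Q) φ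
        have h1 : ∀ z : (Q ⊗[R] S) ⊗[Q] N'', φ.toLinearMap.rTensor N'' (contr S N'' z) =
            contr S' N'' (Φ.toLinearMap.rTensor N'' z) := by
          intro z
          induction z using TensorProduct.induction_on with
          | zero => simp
          | tmul t y =>
            induction t using TensorProduct.induction_on with
            | zero => simp
            | tmul q s => simp [Φ]
            | add a b ha hb => simp only [TensorProduct.add_tmul, map_add, ha, hb]
          | add a b ha hb => simp only [map_add, ha, hb]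
        rw [h1, PolynomialLaw.isCompat_apply', bcS_natural, ← LinearMap.rTensor_comp_apply,
          ← LinearMap.rTensor_comp_apply]
        rfl }
  refine ⟨ρ, fun S _ _ x m => ?_, fun S _ _ m => rfl⟩
  let ι : S →ₐ[R] Q ⊗[R] S := Algebra.TensorProduct.includeRight
  change contr S N'' (ν''.toFun' _ (bcS Q _ _ (ι.toLinearMap.rTensor M' (actEnd M' S x m)))) = _
  rw [rTensor_actEnd, bcS_actEnd (Q' := Q'), hν, norm_ringBC, norm_map, contr_smul]

theorem main [Module.Free R R'] [Module.Finite R R'] {f : M' →ₗ[R'] M''} (hf : IsBaseChange Q' f)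
    (ν : M' →ₚₗ[R] N) (hν : IsUnivNormic R' ν) (ν'' : M'' →ₚₗ[Q] N'')
    (hν'' : IsUnivNormic Q' ν'') :
    ∃ u : N →ₗ[R] N'',
      (∀ (P : Type u) [CommRing P] [Algebra R P] [Algebra Q P] [IsScalarTower R Q P] (m : P ⊗[R] M'),
          ν''.toFun' P (bcAlong (f.restrictScalars R) P m) = bcAlong u P (ν.toFun' P m)) ∧
      IsBaseChange Q u := by
  have hf₀ := isBaseChange_restrict (R := R) (Q := Q) hf
  obtain ⟨μ, hμn, hμ⟩ := exists_baseChange_law (Q := Q) (Q' := Q') ν hν.1 hf
  obtain ⟨ρ, hρn, hρ⟩ := exists_pushed_law (R := R) (R' := R') (Q := Q) (Q' := Q') (f := f) ν'' hν''.1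
  obtain ⟨u, hu, -⟩ := hν.2 N'' ρ hρn
  obtain ⟨v, hv, -⟩ := hν''.2 _ μ hμn
  have hu' : ∀ (S : Type u) [CommRing S] [Algebra R S] (m : S ⊗[R] M'),
      u.lTensor S (ν.toFun' S m) = ρ.toFun' S m := fun S _ _ m => by rw [← hu]; rfl
  have hcompat : ∀ (P : Type u) [CommRing P] [Algebra R P] [Algebra Q P] [IsScalarTower R Q P]
      (m : P ⊗[R] M'), ν''.toFun' P (bcS (Q := Q) (f.restrictScalars R) P m) = bcS Q u P (ν.toFun' P m) := by
    intro P _ _ _ _ m
    let π : Q ⊗[R] P →ₐ[Q] P :=
      Algebra.TensorProduct.lift (Algebra.ofId Q P) (AlgHom.id R P) fun _ _ => Commute.all _ _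
    have h1 : ∀ z : (Q ⊗[R] P) ⊗[Q] N'',
        bcS Q LinearMap.id P (contr P N'' z) = π.toLinearMap.rTensor N'' z := by
      intro z
      induction z using TensorProduct.induction_on with
      | zero => simp
      | tmul t y =>
        induction t using TensorProduct.induction_on with
        | zero => simp
        | tmul q s => simp [π, TensorProduct.smul_tmul', Algebra.smul_def, ← TensorProduct.smul_tmul]
        | add a b ha hb => simp only [TensorProduct.add_tmul, map_add, ha, hb]
      | add a b ha hb => simp only [map_add, ha, hb]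
    have h2 : ∀ z : P ⊗[R] N, bcS Q LinearMap.id P (u.lTensor P z) = bcS Q u P z := by
      intro z
      induction z using TensorProduct.induction_on with
      | zero => simp
      | tmul s y => simp
      | add a b ha hb => simp only [map_add, ha, hb]
    rw [← h2, hu', hρ, h1, PolynomialLaw.isCompat_apply', bcS_natural, ← LinearMap.rTensor_comp_apply]
    congr 2
    refine (LinearMap.congr_fun (?_ : _ = LinearMap.id) m).symm
    ext s y
    simp [π]
  refine ⟨u, fun P _ _ _ _ m => by rw [bcAlong_eq, bcAlong_eq]; exact hcompat P m, ?_⟩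
  let ũ : Q ⊗[R] N →ₗ[Q] N'' := u.liftBaseChange Q
  have hv' : ∀ (P : Type u) [CommRing P] [Algebra Q P] (z : P ⊗[Q] M''),
      v.lTensor P (ν''.toFun' P z) = μ.toFun' P z := fun P _ _ z => by rw [← hv]; rfl
  have huv : ũ ∘ₗ v = LinearMap.id := by
    refine (hν''.2 N'' ν'' hν''.1).unique (PolynomialLaw.ext ?_) (PolynomialLaw.ext ?_)
    · funext S _ _ z
      letI : CommRing S := { ‹CommSemiring S›, Algebra.semiringToRing Q (A := S) with }
      letI : Algebra R S := Algebra.compHom S (algebraMap R Q)
      haveI : IsScalarTower R Q S := IsScalarTower.of_algebraMap_eq fun _ => rfl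
      obtain ⟨m, rfl⟩ := (bcS_bijective _ S hf₀).2 z
      change (ũ ∘ₗ v).lTensor S _ = _
      rw [LinearMap.lTensor_comp_apply, hv', hμ, hcompat]
      generalize ν.toFun' S m = w
      induction w using TensorProduct.induction_on with
      | zero => simp
      | tmul s y => simp [ũ]
      | add a b ha hb => simp only [map_add, ha, hb]
    · funext S _ _ z
      exact LinearMap.lTensor_id_apply _ _ _
  let j₁ : N →ₗ[R] Q ⊗[R] N := TensorProduct.mk R Q N 1
  have hvu : v.restrictScalars R ∘ₗ u = j₁ := by
    have hn : IsNormic R' (postcomp j₁ ν) := fun P _ _ x m => by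
      change j₁.lTensor P (ν.toFun' P _) = _ • j₁.lTensor P _
      rw [hν.1 P, ← LinearMap.baseChange_eq_ltensor, map_smul]
    refine (hν.2 _ (postcomp j₁ ν) hn).unique (PolynomialLaw.ext ?_) rfl
    funext S _ _ m
    letI : CommRing S := { ‹CommSemiring S›, Algebra.semiringToRing R (A := S) with }
    change (v.restrictScalars R ∘ₗ u).lTensor S _ = j₁.lTensor S _
    rw [LinearMap.lTensor_comp_apply, hu', hρ]
    have h1 : ∀ z : (Q ⊗[R] S) ⊗[Q] N'', (v.restrictScalars R).lTensor S (contr S N'' z) =
        contr S (Q ⊗[R] N) (v.lTensor (Q ⊗[R] S) z) := by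
      intro z
      induction z using TensorProduct.induction_on with
      | zero => simp
      | tmul t y =>
        induction t using TensorProduct.induction_on with
        | zero => simp
        | tmul q s => simp
        | add a b ha hb => simp only [TensorProduct.add_tmul, map_add, ha, hb]
      | add a b ha hb => simp only [map_add, ha, hb]
    rw [h1, hv', hμ, ← PolynomialLaw.isCompat_apply']
    generalize ν.toFun' S m = w
    induction w using TensorProduct.induction_on with
    | zero => simp
    | tmul s y => simp [j₁]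
    | add a b ha hb => simp only [map_add, ha, hb]
  refine IsBaseChange.of_equiv (LinearEquiv.ofLinearMap ũ v huv ?_) fun y => ?_
  swap
  · exact (show ũ (1 ⊗ₜ y) = u y by simp [ũ])
  refine TensorProduct.AlgebraTensorModule.ext fun q y => ?_
  have h := LinearMap.congr_fun hvu y
  simp only [LinearMap.comp_apply, LinearMap.coe_restrictScalars] at h
  simp [ũ, h, j₁, TensorProduct.smul_tmul']

end Norm

end Groth.Agent.H27Normic
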